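import Mathlib

/-!
# Base change of a discrete valuation ring unramified over `R` to algebraic extensions
-/

set_option autoImplicit false
universe u
open TensorProduct IsLocalRing Polynomial

namespace ModelTensorLib

variable {R B : Type u} [CommRing R] [IsDomain R] [IsDiscreteValuationRing R]
  [CommRing B] [IsDomain B] [IsDiscreteValuationRing B] [Algebra R B]

theorem algebraMap_injective_of_map (hm : maximalIdeal B = (maximalIdeal R).map (algebraMap R B)) :
    Function.Injective (algebraMap R B) := by
  rw [RingHom.injective_iff_ker_eq_bot]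
  by_contra h
  have h1 : maximalIdeal R ≤ RingHom.ker (algebraMap R B) := by
    haveI := RingHom.ker_isPrime (algebraMap R B)
    exact (IsLocalRing.eq_maximalIdeal (Ideal.IsPrime.isMaximal (RingHom.ker_isPrime _) h)).ge
  have h2 : (maximalIdeal R).map (algebraMap R B) = ⊥ :=
    (Ideal.map_eq_bot_iff_le_ker _).2 h1
  exact IsDiscreteValuationRing.not_a_field B (hm.trans h2)

theorem isAlgebraic_tensor {F : Type u} [CommRing F] [Algebra R F] [Algebra.IsAlgebraic R F]
    (hinj : Function.Injective (algebraMap R B)) (x : B ⊗[R] F) : IsAlgebraic B x := by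
  induction x with
  | zero => exact isAlgebraic_zero
  | tmul b y =>
    have h : IsAlgebraic B ((1 : B) ⊗ₜ[R] y) :=
      ((Algebra.IsAlgebraic.isAlgebraic (R := R) y).algHom
        (Algebra.TensorProduct.includeRight : F →ₐ[R] B ⊗[R] F)).extendScalars hinj
    have e : b ⊗ₜ[R] y = algebraMap B (B ⊗[R] F) b * ((1 : B) ⊗ₜ[R] y) := by
      simp [Algebra.TensorProduct.algebraMap_apply]
    rw [e]
    exact (isAlgebraic_algebraMap b).mul h
  | add a b ha hb => exact ha.add hb

theorem algebraMap_tensor_injective {F : Type u} [CommRing F] [Algebra R F]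
    (hinj : Function.Injective (algebraMap R F)) [Module.IsTorsionFree R B] :
    Function.Injective (algebraMap B (B ⊗[R] F)) := by
  have h := Module.Flat.lTensor_preserves_injective_linearMap (M := B) (Algebra.linearMap R F) hinj
  intro a b hab
  refine (TensorProduct.rid R B).symm.injective (h ?_)
  simpa [Algebra.TensorProduct.algebraMap_apply] using hab

/-- If `B ⊗_R F` is a domain for a field `F` algebraic over `R`, it is a field. -/
theorem isField_tensor (hm : maximalIdeal B = (maximalIdeal R).map (algebraMap R B)) {F : Type u} [Field F]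
    [Algebra R F] [Algebra.IsAlgebraic R F] (hF : Function.Injective (algebraMap R F))
    [IsDomain (B ⊗[R] F)] : IsField (B ⊗[R] F) := by
  have hinj := algebraMap_injective_of_map hm
  obtain ⟨ϖ, hϖ⟩ := IsDiscreteValuationRing.exists_irreducible R
  have hϖB : Irreducible (algebraMap R B ϖ) := by
    rw [IsDiscreteValuationRing.irreducible_iff_uniformizer, hm, hϖ.maximalIdeal_eq,
      Ideal.map_span, Set.image_singleton]
  have hu : IsUnit (algebraMap B (B ⊗[R] F) (algebraMap R B ϖ)) := by
    rw [← IsScalarTower.algebraMap_apply R B (B ⊗[R] F) ϖ,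
      ← (Algebra.TensorProduct.includeRight : F →ₐ[R] B ⊗[R] F).commutes ϖ]
    exact (IsUnit.mk0 _ fun h => hϖ.ne_zero (hF (h.trans (map_zero _).symm))).map _
  refine ⟨exists_pair_ne _, mul_comm, fun {x} hx => ?_⟩
  obtain ⟨b, hb, hdvd⟩ := (isAlgebraic_tensor hinj x).exists_nonzero_dvd (mem_nonZeroDivisors_of_ne_zero hx)
  obtain ⟨n, w, rfl⟩ := IsDiscreteValuationRing.eq_unit_mul_pow_irreducible hb hϖB
  have hub : IsUnit (algebraMap B (B ⊗[R] F) (↑w * algebraMap R B ϖ ^ n)) := by
    rw [map_mul, map_pow]
    exact (w.isUnit.map _).mul (hu.pow n)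
  exact (isUnit_of_dvd_unit hdvd hub).exists_right_inv

section Extension

variable (R) (R' : Type u) [CommRing R'] [IsDomain R'] [IsDiscreteValuationRing R'] [Algebra R R']

/-- A domain over `R` generically finite over `R` is algebraic. -/
theorem isAlgebraic_of_finite (hinj : Function.Injective (algebraMap R R'))
    [Module.Finite (FractionRing R) (FractionRing R ⊗[R] R')] : Algebra.IsAlgebraic R R' := by
  refine ⟨fun x => ?_⟩
  haveI : Module.IsTorsionFree R R' := Module.isTorsionFree_iff_algebraMap_injective.2 hinj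
  let ι : R' →ₐ[R] FractionRing R ⊗[R] R' := Algebra.TensorProduct.includeRight
  have hι : Function.Injective ι :=
    Algebra.TensorProduct.includeRight_injective (IsFractionRing.injective R (FractionRing R))
  have h : IsAlgebraic (FractionRing R) (ι x) :=
    (IsIntegral.of_finite (FractionRing R) (ι x)).isAlgebraic
  rw [← isAlgebraic_algHom_iff ι hι]
  exact (IsFractionRing.isAlgebraic_iff R (FractionRing R) (FractionRing R ⊗[R] R')).2 h

/-- The residue field of `R'` is that of `R` when the latter is algebraically closed. -/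
theorem exists_sub_mem_maximalIdeal [IsAlgClosed (ResidueField R)]
    (hinj : Function.Injective (algebraMap R R')) [IsLocalHom (algebraMap R R')]
    [Algebra.IsAlgebraic R R'] (x : R') : ∃ a : R, x - algebraMap R R' a ∈ maximalIdeal R' := by
  obtain ⟨p, hp0, hp⟩ := Algebra.IsAlgebraic.isAlgebraic (R := R) x
  haveI : Module.IsTorsionFree R R' := Module.isTorsionFree_iff_algebraMap_injective.2 hinj
  obtain ⟨ϖ, hϖ⟩ := IsDiscreteValuationRing.exists_irreducible R
  obtain ⟨n, q, hq, hpq⟩ := WfDvdMonoid.max_power_factor hp0 (Polynomial.prime_C_iff.2 hϖ.prime).irreducible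
  have hroot : aeval x q = 0 := by
    rw [hpq, map_mul, map_pow, aeval_C, mul_eq_zero] at hp
    refine hp.resolve_left (pow_ne_zero n fun h => hϖ.ne_zero (hinj (h.trans (map_zero _).symm)))
  letI : Algebra (ResidueField R) (ResidueField R') := (ResidueField.map (algebraMap R R')).toAlgebra
  have halg : IsAlgebraic (ResidueField R) (residue R' x) := by
    refine ⟨q.map (residue R), fun h => hq ((C_dvd_iff_dvd_coeff _ _).2 fun i => ?_), ?_⟩
    · rw [← Ideal.mem_span_singleton, ← hϖ.maximalIdeal_eq, ← IsLocalRing.residue_eq_zero_iff, ← coeff_map,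
        h, coeff_zero]
    · rw [aeval_def, eval₂_map]
      have h2 : (algebraMap (ResidueField R) (ResidueField R')).comp (residue R) =
          (residue R').comp (algebraMap R R') := RingHom.ext fun _ => rfl
      rw [h2, ← hom_eval₂, ← aeval_def, hroot, map_zero]
  haveI : Algebra.IsIntegral (ResidueField R)
      (Algebra.adjoin (ResidueField R) ({residue R' x} : Set (ResidueField R'))) :=
    Algebra.IsIntegral.adjoin fun y hy => by
      rw [Set.mem_singleton_iff] at hy
      subst hy
      exact halg.isIntegral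
  obtain ⟨a', ha'⟩ := IsAlgClosed.algebraMap_bijective_of_isIntegral
    (k := ResidueField R) (K := Algebra.adjoin (ResidueField R) ({residue R' x} : Set (ResidueField R'))) |>.2
      ⟨_, Algebra.self_mem_adjoin_singleton _ _⟩
  obtain ⟨a, rfl⟩ := residue_surjective a'
  refine ⟨a, ?_⟩
  rw [← IsLocalRing.residue_eq_zero_iff, map_sub, sub_eq_zero]
  exact (congrArg Subtype.val ha').symm

variable {R}

/-- `B ⊗_R R'` is a discrete valuation ring. -/
theorem isDVR_tensor [IsAlgClosed (ResidueField R)]
    (hm : maximalIdeal B = (maximalIdeal R).map (algebraMap R B))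
    (hinj : Function.Injective (algebraMap R R')) [IsLocalHom (algebraMap R R')]
    [Algebra.IsAlgebraic R R'] [IsDomain (B ⊗[R] R')] : IsDiscreteValuationRing (B ⊗[R] R') := by
  have hB := algebraMap_injective_of_map hm
  obtain ⟨ϖ, hϖ⟩ := IsDiscreteValuationRing.exists_irreducible R
  obtain ⟨ϖ', hϖ'⟩ := IsDiscreteValuationRing.exists_irreducible R'
  let ι : R' →ₐ[R] B ⊗[R] R' := Algebra.TensorProduct.includeRight
  haveI : Module.IsTorsionFree R B := Module.isTorsionFree_iff_algebraMap_injective.2 hB
  -- the reduction `B ⊗ R' → κ(B)`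
  have hsurj : Function.Surjective ((residue R').comp (algebraMap R R')) := fun y => by
    obtain ⟨x, rfl⟩ := residue_surjective y
    obtain ⟨a, ha⟩ := exists_sub_mem_maximalIdeal R R' hinj x
    refine ⟨a, ?_⟩
    have h0 := (IsLocalRing.residue_eq_zero_iff _).2 ha
    rw [map_sub, sub_eq_zero] at h0
    exact h0.symm
  haveI : IsLocalHom (algebraMap R B) := ⟨fun a ha => by
    by_contra h
    exact (IsLocalRing.mem_maximalIdeal _).1 (hm.ge (Ideal.mem_map_of_mem _ h)) ha⟩
  let kR : ResidueField R ≃+* ResidueField R' :=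
    RingEquiv.ofBijective (ResidueField.map (algebraMap R R'))
      ⟨RingHom.injective _, fun y => by
        obtain ⟨a, ha⟩ := hsurj y
        exact ⟨residue R a, ha⟩⟩
  letI : Algebra R (ResidueField B) := ((residue B).comp (algebraMap R B)).toAlgebra
  let g₁ : B →ₐ[R] ResidueField B := { residue B with commutes' := fun _ => rfl }
  let g₂ : R' →ₐ[R] ResidueField B :=
    { ((ResidueField.map (algebraMap R B)).comp kR.symm.toRingHom).comp (residue R') with
      commutes' := fun a => by
        show ResidueField.map (algebraMap R B) (kR.symm (residue R' (algebraMap R R' a))) = _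
        rw [show residue R' (algebraMap R R' a) = kR (residue R a) from rfl, RingEquiv.symm_apply_apply]
        rfl }
  let θ : B ⊗[R] R' →ₐ[R] ResidueField B := Algebra.TensorProduct.productMap g₁ g₂
  let π' : B ⊗[R] R' := ι ϖ'
  have hθπ : θ π' = 0 := by
    show θ ((1 : B) ⊗ₜ[R] ϖ') = 0
    rw [Algebra.TensorProduct.productMap_apply_tmul, map_one, one_mul]
    show ResidueField.map (algebraMap R B) (kR.symm (residue R' ϖ')) = 0
    rw [(IsLocalRing.residue_eq_zero_iff _).2 (by rw [hϖ'.maximalIdeal_eq]; exact Ideal.mem_span_singleton_self _),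
      map_zero, map_zero]
  -- every element is congruent to an element of `B` modulo `π'`
  have hrep : ∀ x : B ⊗[R] R', ∃ b : B, x - b ⊗ₜ[R] (1 : R') ∈ Ideal.span {π'} := by
    intro x
    induction x with
    | zero => exact ⟨0, by simp⟩
    | tmul b r =>
      obtain ⟨a, ha⟩ := exists_sub_mem_maximalIdeal R R' hinj r
      rw [hϖ'.maximalIdeal_eq, Ideal.mem_span_singleton'] at ha
      obtain ⟨c, hc⟩ := ha
      refine ⟨a • b, Ideal.mem_span_singleton'.2 ⟨b ⊗ₜ[R] c, ?_⟩⟩
      rw [smul_tmul, ← Algebra.algebraMap_eq_smul_one, ← tmul_sub, ← hc]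
      simp [π', ι, Algebra.TensorProduct.tmul_mul_tmul]
    | add x y hx hy =>
      obtain ⟨b, hb⟩ := hx
      obtain ⟨c, hc⟩ := hy
      exact ⟨b + c, by rw [add_tmul, add_sub_add_comm]; exact add_mem hb hc⟩
  have hπm : ι (algebraMap R R' ϖ) ∈ Ideal.span {π'} := by
    have h1 : algebraMap R R' ϖ ∈ maximalIdeal R' :=
      map_nonunit _ ϖ hϖ.not_isUnit
    rw [hϖ'.maximalIdeal_eq, Ideal.mem_span_singleton] at h1
    exact Ideal.mem_span_singleton.2 (map_dvd ι h1)
  have hker : RingHom.ker θ = Ideal.span {π'} := by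
    refine le_antisymm (fun x hx => ?_) ((Ideal.span_singleton_le_iff_mem _).2 hθπ)
    obtain ⟨b, hb⟩ := hrep x
    have h1 : θ (x - b ⊗ₜ[R] (1 : R')) = 0 :=
      ((Ideal.span_singleton_le_iff_mem (I := RingHom.ker θ)).2 hθπ) hb
    rw [map_sub, (hx : θ x = 0), zero_sub, neg_eq_zero, Algebra.TensorProduct.productMap_apply_tmul,
      map_one, mul_one] at h1
    have h2 : b ∈ maximalIdeal B := (IsLocalRing.residue_eq_zero_iff b).1 h1
    rw [hm, hϖ.maximalIdeal_eq, Ideal.map_span, Set.image_singleton, Ideal.mem_span_singleton'] at h2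
    obtain ⟨c, hc⟩ := h2
    have h3 : b ⊗ₜ[R] (1 : R') ∈ Ideal.span {π'} := by
      have e : b ⊗ₜ[R] (1 : R') = (c ⊗ₜ[R] (1 : R')) * ι (algebraMap R R' ϖ) := by
        rw [ι.commutes, Algebra.TensorProduct.algebraMap_apply, Algebra.TensorProduct.tmul_mul_tmul, mul_one, hc]
      rw [e]
      exact Ideal.mul_mem_left _ _ hπm
    simpa using add_mem hb h3
  have hmax : (Ideal.span {π'}).IsMaximal := by
    rw [← hker]
    refine RingHom.ker_isMaximal_of_surjective θ fun y => ?_
    obtain ⟨b, rfl⟩ := residue_surjective y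
    exact ⟨b ⊗ₜ[R] (1 : R'), by rw [Algebra.TensorProduct.productMap_apply_tmul, map_one, mul_one]; rfl⟩
  haveI : Module.IsTorsionFree R R' := Module.isTorsionFree_iff_algebraMap_injective.2 hinj
  have hι : Function.Injective ι := Algebra.TensorProduct.includeRight_injective hB
  have hprime : ∀ P : Ideal (B ⊗[R] R'), P.IsPrime → P ≠ ⊥ → P = Ideal.span {π'} := by
    intro P hP hP0
    obtain ⟨x, hxP, hx⟩ := Submodule.exists_mem_ne_zero_of_ne_bot hP0
    obtain ⟨b, hb, hdvd⟩ :=
      (isAlgebraic_tensor hB x).exists_nonzero_dvd (mem_nonZeroDivisors_of_ne_zero hx)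
    have hbP : algebraMap B _ b ∈ P := Ideal.mem_of_dvd _ hdvd hxP
    have hϖB : Irreducible (algebraMap R B ϖ) := by
      rw [IsDiscreteValuationRing.irreducible_iff_uniformizer, hm, hϖ.maximalIdeal_eq,
        Ideal.map_span, Set.image_singleton]
    obtain ⟨n, w, rfl⟩ := IsDiscreteValuationRing.eq_unit_mul_pow_irreducible hb hϖB
    rw [map_mul, map_pow] at hbP
    have h1 : ι (algebraMap R R' ϖ) ∈ P := by
      rcases hP.mem_or_mem hbP with h | h
      · exact absurd (Ideal.eq_top_of_isUnit_mem _ h (w.isUnit.map _)) hP.ne_top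
      · rw [ι.commutes, IsScalarTower.algebraMap_apply R B (B ⊗[R] R') ϖ]
        exact hP.mem_of_pow_mem n h
    have hne : algebraMap R R' ϖ ≠ 0 := fun h => hϖ.ne_zero (hinj (h.trans (map_zero _).symm))
    obtain ⟨m, v, hv⟩ := IsDiscreteValuationRing.eq_unit_mul_pow_irreducible hne hϖ'
    rw [hv, map_mul, map_pow] at h1
    have h2 : π' ∈ P := by
      rcases hP.mem_or_mem h1 with h | h
      · exact absurd (Ideal.eq_top_of_isUnit_mem _ h (v.isUnit.map _)) hP.ne_top
      · exact hP.mem_of_pow_mem m h
    exact (hmax.eq_of_le hP.ne_top ((Ideal.span_singleton_le_iff_mem _).2 h2)).symm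
  have hne0 : π' ≠ 0 := fun h => hϖ'.ne_zero (hι (h.trans (map_zero _).symm))
  haveI : IsPrincipalIdealRing (B ⊗[R] R') := IsPrincipalIdealRing.of_prime fun P hP => by
    by_cases h : P = ⊥
    · exact ⟨0, by simp [h]⟩
    · exact ⟨π', hprime P hP h⟩
  haveI : IsLocalRing (B ⊗[R] R') := IsLocalRing.of_unique_max_ideal
    ⟨Ideal.span {π'}, hmax, fun P hP => hprime P hP.isPrime fun h =>
      hne0 (by
        subst h
        have := hP.eq_of_le hmax.ne_top bot_le
        exact Ideal.span_singleton_eq_bot.1 this.symm)⟩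
  exact
    { not_a_field' := fun h => hne0 (by
        rw [← IsLocalRing.eq_maximalIdeal hmax] at h
        exact Ideal.span_singleton_eq_bot.1 h) }

end Extension

end ModelTensorLib
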