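import Groth.Agent.H0Lib.Local
import Groth.Agent.H0Lib.Field
import Groth.Agent.H0Lib.Descent
import Groth.Agent.VertIntLib.Conn
import Groth.Agent.FibVALib.Curve
import Groth.Agent.ModelTensorLib.Alg
import Groth.Statements.S17020

/-!
# Stalks of a model at generic points of the special fibre, tensored with algebraic extensions
-/

set_option autoImplicit false
set_option backward.isDefEq.respectTransparency false
universe u
open CategoryTheory CategoryTheory.Limits AlgebraicGeometry TensorProduct IsLocalRing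

namespace ModelTensorLib

variable {R : Type u} [CommRing R] [IsDomain R] [IsDiscreteValuationRing R]

theorem isIso_appTop_model [IsAlgClosed (ResidueField R)] {X Xs : Scheme.{u}} (f : X ⟶ Spec (CommRingCat.of R))
    [IsProper f] [Flat f] (gs : Xs ⟶ X) (fs : Xs ⟶ Spec (CommRingCat.of (ResidueField R)))
    (hs : IsPullback gs fs f (Spec.map (CommRingCat.ofHom (residue R))))
    [ConnectedSpace Xs] [AlgebraicGeometry.IsReduced Xs] : IsIso f.appTop := by
  haveI : IsProper fs := MorphismProperty.of_isPullback hs ‹IsProper f›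
  haveI := H0Lib.isIso_appTop_of_isAlgClosed fs
  refine H0Lib.isIso_appTop_of_noetherian_local (A := CommRingCat.of R) (f := f) fun K _ φ hφ => ?_
  let ψ : ResidueField R →+* K := Ideal.Quotient.lift (maximalIdeal R) φ.hom fun a ha => by
    have : a ∈ RingHom.ker φ.hom := hφ.ge ha
    exact this
  have hfac : φ = CommRingCat.ofHom (residue R) ≫ CommRingCat.ofHom ψ := rfl
  have h1 := (IsPullback.of_hasPullback fs (Spec.map (CommRingCat.ofHom ψ))).paste_horiz hs
  rw [← Spec.map_comp, ← hfac] at h1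
  haveI : IsIso (pullback.snd fs (Spec.map (CommRingCat.ofHom ψ))).appTop :=
    H0Lib.isIso_appTop_baseChange (IsPullback.of_hasPullback fs (Spec.map (CommRingCat.ofHom ψ))) (by
      letI : Algebra (ResidueField R) K := ψ.toAlgebra
      show (algebraMap (ResidueField R) K).Flat
      exact RingHom.flat_algebraMap_iff.2 inferInstance)
  exact H0Lib.isIso_appTop_of_iso h1.isoPullback.inv h1.isoPullback_inv_snd

theorem isDomain_tensor_of_isOpenImmersion {A F : Type u} [CommRing A] [CommRing F] [Algebra R A] [Algebra R F]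
    {X Y : Scheme.{u}} (f : X ⟶ Spec (CommRingCat.of R)) (j : Spec (CommRingCat.of A) ⟶ X) [IsOpenImmersion j]
    (hj : j ≫ f = Spec.map (CommRingCat.ofHom (algebraMap R A)))
    (gY : Y ⟶ X) (pY : Y ⟶ Spec (CommRingCat.of F))
    (hY : IsPullback gY pY f (Spec.map (CommRingCat.ofHom (algebraMap R F))))
    [IsIntegral Y] [Nontrivial (A ⊗[R] F)] : IsDomain (A ⊗[R] F) := by
  let sR := Spec.map (CommRingCat.ofHom (algebraMap R A))
  let sF := Spec.map (CommRingCat.ofHom (algebraMap R F))
  let m : pullback sR sF ⟶ pullback f sF :=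
    pullback.map sR sF f sF j (𝟙 _) (𝟙 _) (by simp [sR, hj]) (by simp)
  haveI : IsOpenImmersion m := inferInstance
  let e : Spec (CommRingCat.of (A ⊗[R] F)) ⟶ Y :=
    (pullbackSpecIso R A F).inv ≫ m ≫ hY.isoPullback.inv
  haveI : Nonempty ↥(Spec (CommRingCat.of (A ⊗[R] F))) := inferInstanceAs (Nonempty (PrimeSpectrum (A ⊗[R] F)))
  haveI := isIntegral_of_isOpenImmersion e
  exact (affine_isIntegral_iff (CommRingCat.of (A ⊗[R] F))).1 inferInstance

theorem isDomain_tensor_localization {A B F : Type u} [CommRing A] [CommRing B] [CommRing F] [Algebra R A]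
    [Algebra R F] [Algebra R B] [Algebra A B] [IsScalarTower R A B] (M : Submonoid A) [IsLocalization M B]
    [IsDomain (A ⊗[R] F)] [Nontrivial (B ⊗[R] F)] : IsDomain (B ⊗[R] F) := by
  let e : B ⊗[A] (A ⊗[R] F) ≃ₐ[B] B ⊗[R] F := Algebra.TensorProduct.cancelBaseChange R A B B F
  haveI : Nontrivial (B ⊗[A] (A ⊗[R] F)) := e.toRingEquiv.toEquiv.nontrivial
  letI : Algebra (A ⊗[R] F) (B ⊗[A] (A ⊗[R] F)) := Algebra.TensorProduct.rightAlgebra
  haveI : IsLocalization (Algebra.algebraMapSubmonoid (A ⊗[R] F) M) (B ⊗[A] (A ⊗[R] F)) :=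
    IsLocalization.tensorRight B M
  haveI : IsDomain (B ⊗[A] (A ⊗[R] F)) := by
    refine IsLocalization.isDomain_of_le_nonZeroDivisors (B ⊗[A] (A ⊗[R] F))
      (M := Algebra.algebraMapSubmonoid (A ⊗[R] F) M) ?_
    refine le_nonZeroDivisors_of_noZeroDivisors fun h => ?_
    exact not_subsingleton (B ⊗[A] (A ⊗[R] F)) (IsLocalization.subsingleton (S := B ⊗[A] (A ⊗[R] F)) h)
  exact e.symm.toRingEquiv.toMulEquiv.isDomain _

theorem isDomain_tensor_stalk [IsAlgClosed (ResidueField R)]
    (X : Scheme.{u}) (f : X ⟶ Spec (CommRingCat.of R)) [IsProper f] [Flat f]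
    (XK : Scheme.{u}) (gK : XK ⟶ X) (fK : XK ⟶ Spec (CommRingCat.of (FractionRing R)))
    (hK : IsPullback gK fK f (Spec.map (CommRingCat.ofHom (algebraMap R (FractionRing R)))))
    [SmoothOfRelativeDimension 1 fK]
    (Xs : Scheme.{u}) (gs : Xs ⟶ X) (fs : Xs ⟶ Spec (CommRingCat.of (ResidueField R)))
    (hs : IsPullback gs fs f (Spec.map (CommRingCat.ofHom (residue R))))
    [ConnectedSpace Xs] [AlgebraicGeometry.IsReduced Xs] (x : X)
    {B : Type u} [CommRing B] [IsDomain B] [IsDiscreteValuationRing B] [Algebra R B]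
    (hB : Function.Injective (algebraMap R B))
    (e : X.presheaf.stalk x ≅ CommRingCat.of B)
    (he : e.hom.hom.comp ((X.presheaf.germ ⊤ x trivial).hom.comp (Coh.toGlobal f)) = algebraMap R B)
    (F : Type u) [Field F] [Algebra R F] [Algebra (FractionRing R) F] [IsScalarTower R (FractionRing R) F] :
    IsDomain (B ⊗[R] F) := by
  have hR := isIso_appTop_model f gs fs hs
  have hfl : (CommRingCat.ofHom (algebraMap R (FractionRing R))).hom.Flat :=
    RingHom.flat_algebraMap_iff.2 inferInstance
  haveI : IsProper fK := MorphismProperty.of_isPullback hK ‹IsProper f›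
  haveI : Smooth fK := SmoothOfRelativeDimension.smooth 1 fK
  haveI : IsIso fK.appTop := H0Lib.isIso_appTop_baseChange hK hfl
  haveI : GeometricallyConnected fK := VertIntLib.geometricallyConnected_of_appTop fK inferInstance
  haveI : GeometricallyIntegral fK := FibVALib.geometricallyIntegral_of_geometricallyConnected fK
  let sF := Spec.map (CommRingCat.ofHom (algebraMap (FractionRing R) F))
  haveI : IsIntegral (pullback fK sF) :=
    GeometricallyIntegral.geometrically_isIntegral sF _ _ (IsPullback.of_hasPullback fK sF)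
  have hY := (IsPullback.of_hasPullback fK sF).paste_horiz hK
  rw [← Spec.map_comp, ← CommRingCat.ofHom_comp, ← IsScalarTower.algebraMap_eq] at hY
  obtain ⟨U, hU, hxU, -⟩ := exists_isAffineOpen_mem_and_subset (U := (⊤ : X.Opens)) (x := x) trivial
  let ρ : CommRingCat.of R ⟶ Γ(X, U) :=
    CommRingCat.ofHom ((X.presheaf.map (homOfLE (le_top : U ≤ ⊤)).op).hom.comp (Coh.toGlobal f))
  letI : Algebra R Γ(X, U) := ρ.hom.toAlgebra
  letI : Algebra Γ(X, U) B := (e.hom.hom.comp (X.presheaf.germ U x hxU).hom).toAlgebra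
  haveI : IsScalarTower R Γ(X, U) B := IsScalarTower.of_algebraMap_eq' (by
    rw [← he]
    refine RingHom.ext fun r => ?_
    exact congrArg e.hom (TopCat.Presheaf.germ_res_apply X.presheaf (homOfLE (le_top : U ≤ ⊤)) x hxU _).symm)
  haveI : IsLocalization.AtPrime B (hU.primeIdealOf ⟨x, hxU⟩).asIdeal := by
    letI : Algebra Γ(X, U) (X.presheaf.stalk x) := (X.presheaf.germ U x hxU).hom.toAlgebra
    haveI h1 : IsLocalization.AtPrime (X.presheaf.stalk x) (hU.primeIdealOf ⟨x, hxU⟩).asIdeal :=
      hU.isLocalization_stalk ⟨x, hxU⟩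
    exact IsLocalization.isLocalization_of_algEquiv _
      (AlgEquiv.ofRingEquiv (f := e.commRingCatIsoToRingEquiv) fun _ => rfl)
  haveI : Module.IsTorsionFree R B := Module.isTorsionFree_iff_algebraMap_injective.2 hB
  have hF : Function.Injective (algebraMap R F) := by
    rw [IsScalarTower.algebraMap_eq R (FractionRing R) F]
    exact (algebraMap (FractionRing R) F).injective.comp (IsFractionRing.injective R (FractionRing R))
  haveI : Nontrivial (B ⊗[R] F) := (algebraMap_tensor_injective (B := B) hF).nontrivial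
  haveI : Nontrivial (Γ(X, U) ⊗[R] F) :=
    (Algebra.TensorProduct.map (IsScalarTower.toAlgHom R Γ(X, U) B) (AlgHom.id R F)).toRingHom.domain_nontrivial
  haveI : IsDomain (Γ(X, U) ⊗[R] F) := by
    refine isDomain_tensor_of_isOpenImmersion (A := Γ(X, U)) f hU.fromSpec ?_ _ _ hY
    rw [← cancel_mono (Spec (CommRingCat.of R)).toSpecΓ, Category.assoc, Scheme.toSpecΓ_naturality,
      ← Category.assoc, IsAffineOpen.fromSpec_toSpecΓ, ← Spec.map_comp, ← SpecMap_ΓSpecIso_hom,
      ← Spec.map_comp]
    congr 1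
    refine CommRingCat.hom_ext (RingHom.ext fun r => ?_)
    show (X.presheaf.map (homOfLE le_top).op).hom (f.appTop r) =
      (X.presheaf.map (homOfLE le_top).op).hom (f.appTop ((Scheme.ΓSpecIso (CommRingCat.of R)).inv
        ((Scheme.ΓSpecIso (CommRingCat.of R)).hom r)))
    rw [Iso.hom_inv_id_apply]
  exact isDomain_tensor_localization (A := Γ(X, U)) (hU.primeIdealOf ⟨x, hxU⟩).asIdeal.primeCompl

end ModelTensorLib
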