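import Groth.Agent.ModelTensorLib.Geom
import Groth.Agent.S17018

/-!
# Base change of stalks of a model at generic points of the special fibre
-/

set_option autoImplicit false
universe u
open CategoryTheory CategoryTheory.Limits AlgebraicGeometry TensorProduct IsLocalRing

namespace ModelTensorLib

variable {R : Type u} [CommRing R] [IsDomain R] [IsDiscreteValuationRing R]
    [IsAlgClosed (ResidueField R)]
    (X : Scheme.{u}) (f : X ⟶ Spec (CommRingCat.of R)) [IsProper f] [Flat f]
    (XK : Scheme.{u}) (gK : XK ⟶ X) (fK : XK ⟶ Spec (CommRingCat.of (FractionRing R)))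
    (hK : IsPullback gK fK f (Spec.map (CommRingCat.ofHom (algebraMap R (FractionRing R)))))
    [SmoothOfRelativeDimension 1 fK] [ConnectedSpace XK]
    (Xs : Scheme.{u}) (gs : Xs ⟶ X) (fs : Xs ⟶ Spec (CommRingCat.of (ResidueField R)))
    (hs : IsPullback gs fs f (Spec.map (CommRingCat.ofHom (residue R))))
    [ConnectedSpace Xs] [AlgebraicGeometry.IsReduced Xs]
    (ξ : Xs) (hξ : closure ({ξ} : Set Xs) ∈ irreducibleComponents Xs)
    (B : Type u) [CommRing B] [IsDomain B] [IsDiscreteValuationRing B] [Algebra R B]
    (e : X.presheaf.stalk (gs.base ξ) ≅ CommRingCat.of B)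
    (he : e.hom.hom.comp ((X.presheaf.germ ⊤ (gs.base ξ) trivial).hom.comp (Coh.toGlobal f)) =
      algebraMap R B)

include hK hs hξ he

theorem isDomain_tensor_algClosure : IsDomain (B ⊗[R] AlgebraicClosure (FractionRing R)) :=
  isDomain_tensor_stalk X f XK gK fK hK Xs gs fs hs (gs.base ξ)
    (algebraMap_injective_of_map (Groth.Agent.S17018.result R X f XK gK fK hK Xs gs fs hs ξ hξ B e he))
    e he (AlgebraicClosure (FractionRing R))

theorem isField_main : IsField (AlgebraicClosure (FractionRing R) ⊗[R] B) := by
  haveI := isDomain_tensor_algClosure X f XK gK fK hK Xs gs fs hs ξ hξ B e he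
  haveI : Algebra.IsAlgebraic R (FractionRing R) := IsLocalization.isAlgebraic _ (nonZeroDivisors R)
  haveI : Algebra.IsAlgebraic R (AlgebraicClosure (FractionRing R)) :=
    Algebra.IsAlgebraic.trans R (FractionRing R) (AlgebraicClosure (FractionRing R))
  have hF : Function.Injective (algebraMap R (AlgebraicClosure (FractionRing R))) := by
    rw [IsScalarTower.algebraMap_eq R (FractionRing R) (AlgebraicClosure (FractionRing R))]
    exact (algebraMap (FractionRing R) _).injective.comp (IsFractionRing.injective R (FractionRing R))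
  exact (Algebra.TensorProduct.comm R (AlgebraicClosure (FractionRing R)) B).toMulEquiv.isField
    (isField_tensor (Groth.Agent.S17018.result R X f XK gK fK hK Xs gs fs hs ξ hξ B e he) hF)

theorem isDVR_main (R' : Type u) [CommRing R'] [IsDomain R'] [IsDiscreteValuationRing R'] [Algebra R R']
    (hinj : Function.Injective (algebraMap R R')) [IsLocalHom (algebraMap R R')]
    [Module.Finite (FractionRing R) (FractionRing R ⊗[R] R')] :
    ∃ _ : IsDomain (B ⊗[R] R'), IsDiscreteValuationRing (B ⊗[R] R') := by
  have hm := Groth.Agent.S17018.result R X f XK gK fK hK Xs gs fs hs ξ hξ B e he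
  have hB := algebraMap_injective_of_map hm
  haveI := isAlgebraic_of_finite R R' hinj
  haveI : Module.IsTorsionFree R R' := Module.isTorsionFree_iff_algebraMap_injective.2 hinj
  have hF : Function.Injective (algebraMap R (AlgebraicClosure (FractionRing R))) := by
    rw [IsScalarTower.algebraMap_eq R (FractionRing R) (AlgebraicClosure (FractionRing R))]
    exact (algebraMap (FractionRing R) _).injective.comp (IsFractionRing.injective R (FractionRing R))
  haveI : Module.IsTorsionFree R (AlgebraicClosure (FractionRing R)) :=
    Module.isTorsionFree_iff_algebraMap_injective.2 hF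
  let σ : R' →ₐ[R] AlgebraicClosure (FractionRing R) := IsAlgClosed.lift
  have hσ : Function.Injective σ := by
    rw [injective_iff_map_eq_zero]
    intro x hx
    by_contra hne
    obtain ⟨a, ha, hdvd⟩ :=
      (Algebra.IsAlgebraic.isAlgebraic (R := R) x).exists_nonzero_dvd (mem_nonZeroDivisors_of_ne_zero hne)
    have h1 := map_dvd σ hdvd
    rw [hx, zero_dvd_iff, σ.commutes] at h1
    exact ha (hF (h1.trans (map_zero _).symm))
  haveI := isDomain_tensor_algClosure X f XK gK fK hK Xs gs fs hs ξ hξ B e he
  haveI : Module.IsTorsionFree R B := Module.isTorsionFree_iff_algebraMap_injective.2 hB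
  have hi : Function.Injective (Algebra.TensorProduct.map (AlgHom.id R B) σ) :=
    Module.Flat.lTensor_preserves_injective_linearMap (M := B) σ.toLinearMap hσ
  haveI : IsDomain (B ⊗[R] R') := hi.isDomain (Algebra.TensorProduct.map (AlgHom.id R B) σ)
  exact ⟨inferInstance, isDVR_tensor R' hm hinj⟩

end ModelTensorLib
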